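import Mathlib
import Cfsg.Agent.H64.SLCover.RankOne

set_option autoImplicit false

namespace Cfsg.Agent.H64.SLCover

open Matrix
open scoped commutatorElement

variable {n : ℕ} {F : Type*} [Field F]

theorem MonoAt.inv {g : Matrix.SpecialLinearGroup (Fin n) F} {a b : Fin n} {c : F}
    (h : MonoAt g a b c) : MonoAt g⁻¹ b a c⁻¹ := by
  have hc := h.ne_zero
  rw [MonoAt, inv_smul_eq_iff, Cfsg.Agent.H1.SL_smul_comm, h, smul_smul, inv_mul_cancel₀ hc, one_smul]

theorem MonoAt.of_eq {g : Matrix.SpecialLinearGroup (Fin n) F} {a b b' : Fin n} {c c' : F}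
    (h : MonoAt g a b c) (hb : b = b') (hc : c = c') : MonoAt g a b' c' := hb ▸ hc ▸ h

/-- Monomial elements are determined by their data. -/
theorem eq_of_monoAt {g g' : Matrix.SpecialLinearGroup (Fin n) F}
    (h : ∀ a, ∃ b c, MonoAt g a b c ∧ MonoAt g' a b c) : g = g' :=
  Cfsg.Agent.H1.SL_ext_single fun a => by
    obtain ⟨b, c, h1, h2⟩ := h a
    exact h1.trans h2.symm

namespace Cov

variable {Γ : Type*} [Group Γ] (C : Cov Γ n F)

/-- Lift of the Weyl element `x_ij(t) x_ji(-t⁻¹) x_ij(t)`. -/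
noncomputable def W (i j : Fin n) (t : F) : Γ := C.X i j t * C.X j i (-t⁻¹) * C.X i j t

/-- Lift of the torus element. -/
noncomputable def Hh (i j : Fin n) (t : F) : Γ := C.W i j t * C.W i j (-1)

theorem σ_W {i j : Fin n} (h : i ≠ j) (t : F) : C.σ (C.W i j t) = rw' i j t := by
  rw [W, map_mul, map_mul, C.σ_X h, C.σ_X h.symm, rw']

theorem W_mono {i j : Fin n} (h : i ≠ j) {t : F} (ht : t ≠ 0) (a : Fin n) :
    MonoAt (C.σ (C.W i j t)) a (Equiv.swap i j a) (if a = j then t else if a = i then -t⁻¹ else 1) := by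
  rw [C.σ_W h]; exact rw'_monoAt h ht a

theorem Hh_mono {i j : Fin n} (h : i ≠ j) {t : F} (ht : t ≠ 0) (a : Fin n) :
    MonoAt (C.σ (C.Hh i j t)) a a (if a = i then t else if a = j then t⁻¹ else 1) := by
  rw [Hh, map_mul]
  have h1 := (C.W_mono h (t := -1) (by simp) a).mul (C.W_mono h ht _)
  refine h1.of_eq (Equiv.swap_apply_self i j a) ?_
  rcases eq_or_ne a i with rfl | hai
  · simp [h, h.symm]
  rcases eq_or_ne a j with rfl | haj
  · simp [h, h.symm]
  · simp [hai, haj, Equiv.swap_apply_of_ne_of_ne hai haj]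

/-- The subgroup generated by the lifted root groups with indices at least `m`. -/
noncomputable def gen (m : ℕ) : Subgroup Γ :=
  Subgroup.closure {g | ∃ (i j : Fin n) (t : F), m ≤ i.val ∧ m ≤ j.val ∧ i ≠ j ∧ g = C.X i j t}

/-- The lifted parabolic: column index above `m`. -/
noncomputable def par (m : ℕ) : Subgroup Γ :=
  Subgroup.closure {g | ∃ (i j : Fin n) (t : F), m ≤ i.val ∧ m + 1 ≤ j.val ∧ i ≠ j ∧ g = C.X i j t}

theorem X_mem_gen {m : ℕ} {i j : Fin n} (hi : m ≤ i.val) (hj : m ≤ j.val) (h : i ≠ j) (t : F) :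
    C.X i j t ∈ C.gen m := Subgroup.subset_closure ⟨i, j, t, hi, hj, h, rfl⟩

theorem X_mem_par {m : ℕ} {i j : Fin n} (hi : m ≤ i.val) (hj : m + 1 ≤ j.val) (h : i ≠ j) (t : F) :
    C.X i j t ∈ C.par m := Subgroup.subset_closure ⟨i, j, t, hi, hj, h, rfl⟩

theorem gen_succ_le_par (m : ℕ) : C.gen (m + 1) ≤ C.par m := by
  rw [gen, Subgroup.closure_le]
  rintro _ ⟨i, j, t, hi, hj, h, rfl⟩
  exact C.X_mem_par (Nat.le_of_succ_le hi) hj h t

theorem par_le_gen (m : ℕ) : C.par m ≤ C.gen m := by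
  rw [par, Subgroup.closure_le]
  rintro _ ⟨i, j, t, hi, hj, h, rfl⟩
  exact C.X_mem_gen hi (Nat.le_of_succ_le hj) h t

theorem W_mem_gen {m : ℕ} {i j : Fin n} (hi : m ≤ i.val) (hj : m ≤ j.val) (h : i ≠ j) (t : F) :
    C.W i j t ∈ C.gen m :=
  mul_mem (mul_mem (C.X_mem_gen hi hj h t) (C.X_mem_gen hj hi h.symm _)) (C.X_mem_gen hi hj h t)

theorem Hh_mem_gen {m : ℕ} {i j : Fin n} (hi : m ≤ i.val) (hj : m ≤ j.val) (h : i ≠ j) (t : F) :
    C.Hh i j t ∈ C.gen m := mul_mem (C.W_mem_gen hi hj h t) (C.W_mem_gen hi hj h _)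

theorem W_mem_pairGroup (i j : Fin n) (t : F) : C.W i j t ∈ C.pairGroup i j :=
  mul_mem (mul_mem (C.X_mem_pairGroup i j t) (C.X_mem_pairGroup' i j _)) (C.X_mem_pairGroup i j t)

theorem pairGroup_comm (i j : Fin n) : C.pairGroup i j = C.pairGroup j i := by
  rw [pairGroup, pairGroup, Set.union_comm]

theorem W_mem_pairGroup' (i j : Fin n) (t : F) : C.W j i t ∈ C.pairGroup i j :=
  C.pairGroup_comm i j ▸ C.W_mem_pairGroup j i t

theorem Hh_mem_pairGroup (i j : Fin n) (t : F) : C.Hh i j t ∈ C.pairGroup i j :=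
  mul_mem (C.W_mem_pairGroup i j t) (C.W_mem_pairGroup i j _)

theorem Hh_mem_pairGroup' (i j : Fin n) (t : F) : C.Hh j i t ∈ C.pairGroup i j :=
  C.pairGroup_comm i j ▸ C.Hh_mem_pairGroup j i t

/-- Equality inside a rank one group is detected in `SL_n`. -/
theorem pairGroup_ext [Finite Γ] [Fintype F] {a b : Fin n} (h : a ≠ b) {x y : Γ}
    (hx : x ∈ C.pairGroup a b) (hy : y ∈ C.pairGroup a b) (he : C.σ x = C.σ y) : x = y :=
  mul_inv_eq_one.mp (C.pairGroup_injective h (mul_mem hx (inv_mem hy))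
    (by rw [map_mul, map_inv, he, mul_inv_cancel]))

/-- The column group `⟨X i k : m ≤ i < b⟩`. -/
noncomputable def col (m b : ℕ) (k : Fin n) : Subgroup Γ :=
  Subgroup.closure {g | ∃ (i : Fin n) (t : F), m ≤ i.val ∧ i.val < b ∧ i ≠ k ∧ g = C.X i k t}

theorem X_mem_col {m b : ℕ} {i k : Fin n} (hi : m ≤ i.val) (hb : i.val < b) (h : i ≠ k) (t : F) :
    C.X i k t ∈ C.col m b k := Subgroup.subset_closure ⟨i, t, hi, hb, h, rfl⟩

/-- The representative of leader `k` and coefficient `a`. -/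
noncomputable def rep (o o' k : Fin n) (a : F) : Γ := if k = o then C.Hh o o' a else C.W k o a

theorem rep_mono {o o' k : Fin n} (ho : o ≠ o') {a : F} (ha : a ≠ 0) (x : Fin n) :
    ∃ c, MonoAt (C.σ (C.rep o o' k a)) x (Equiv.swap k o x) c := by
  by_cases hk : k = o
  · subst hk
    rw [rep, if_pos rfl, Equiv.swap_self]
    exact ⟨_, C.Hh_mono ho ha x⟩
  · rw [rep, if_neg hk]
    exact ⟨_, C.W_mono hk ha x⟩

theorem rep_smul {o o' k : Fin n} (ho : o ≠ o') {a : F} (ha : a ≠ 0) :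
    MonoAt (C.σ (C.rep o o' k a)) o k a := by
  by_cases hk : k = o
  · subst hk
    rw [rep, if_pos rfl]
    exact (C.Hh_mono ho ha k).of_eq rfl (if_pos rfl)
  · rw [rep, if_neg hk]
    exact (C.W_mono hk ha o).of_eq (Equiv.swap_apply_right k o) (if_pos rfl)

theorem rep_mem_gen {o o' k : Fin n} (ho : o ≠ o') {m : ℕ} (hm : m ≤ o.val) (hm' : m ≤ o'.val)
    (hk : m ≤ k.val) (a : F) : C.rep o o' k a ∈ C.gen m := by
  unfold rep
  split_ifs with h
  · exact C.Hh_mem_gen hm hm' ho a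
  · exact C.W_mem_gen hk hm h a

/-- Root lifts with column different from `k` move through the representative into the parabolic. -/
theorem X_mul_rep {o o' k : Fin n} (ho : o ≠ o') (hk : o.val ≤ k.val) {a : F} (ha : a ≠ 0) {i j : Fin n}
    (hi : o.val ≤ i.val) (hj : o.val ≤ j.val) (hij : i ≠ j) (hjk : j ≠ k) (t : F) :
    (C.rep o o' k a)⁻¹ * C.X i j t * C.rep o o' k a ∈ C.par o.val := by
  choose c hc using fun x => C.rep_mono (k := k) ho ha x
  have hinv : ∀ y, MonoAt (C.σ (C.rep o o' k a)⁻¹) y (Equiv.swap k o y) (c (Equiv.swap k o y))⁻¹ := by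
    intro y
    rw [map_inv]
    have := (hc (Equiv.swap k o y)).inv
    rwa [Equiv.swap_apply_self] at this
  have h1 := C.X_conj hinv hij t
  rw [inv_inv] at h1
  rw [h1]
  refine C.X_mem_par ?_ ?_ ((Equiv.swap k o).injective.ne hij) _
  · rcases eq_or_ne i k with rfl | h
    · rw [Equiv.swap_apply_left]
    rcases eq_or_ne i o with rfl | h'
    · rw [Equiv.swap_apply_right]; exact hk
    · rw [Equiv.swap_apply_of_ne_of_ne h h']; exact hi
  · rcases eq_or_ne j o with rfl | h'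
    · rw [Equiv.swap_apply_right]
      exact Nat.lt_of_le_of_ne hk (fun h => hjk (Fin.ext h))
    · rw [Equiv.swap_apply_of_ne_of_ne hjk h']
      exact Nat.lt_of_le_of_ne hj (fun h => h' (Fin.ext h).symm)

/-- Column groups are normalised by root lifts above them. -/
theorem conj_X_col {m b : ℕ} {i q k : Fin n} (hq : q ≠ i) (hki : k ≠ i) (hqk : q ≠ k)
    (hi : m ≤ i.val) (hb : i.val < b) (t : F) :
    ∀ g ∈ C.col m b k, C.X i q t * g * (C.X i q t)⁻¹ ∈ C.col m b k := by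
  intro g hg
  refine Subgroup.closure_induction (p := fun g _ => C.X i q t * g * (C.X i q t)⁻¹ ∈ C.col m b k)
    ?_ (by simp) ?_ ?_ hg
  · rintro _ ⟨x, s, hx, hxb, hxk, rfl⟩
    by_cases hxq : x = q
    · subst hxq
      have h := C.X_bracket (i := i) (j := k) (k := x) hki.symm hq.symm hxk t s
      rw [commutatorElement_def, mul_inv_eq_iff_eq_mul] at h
      rw [h]
      exact mul_mem (C.X_mem_col hi hb hki.symm _) (C.X_mem_col hx hxb hxk s)
    · rw [(C.X_commute hq.symm hxk (Ne.symm hxq) hki.symm t s).eq, mul_inv_cancel_right]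
      exact C.X_mem_col hx hxb hxk s
  · intro x y _ _ hx hy
    have := mul_mem hx hy
    rwa [show C.X i q t * x * (C.X i q t)⁻¹ * (C.X i q t * y * (C.X i q t)⁻¹)
      = C.X i q t * (x * y) * (C.X i q t)⁻¹ by group] at this
  · intro x _ hx
    have := inv_mem hx
    rwa [show (C.X i q t * x * (C.X i q t)⁻¹)⁻¹ = C.X i q t * x⁻¹ * (C.X i q t)⁻¹ by group] at this

theorem conj_col_col {m b : ℕ} {k r : Fin n} (hb : k.val ≤ r.val) (hkr : k ≠ r) (hkb : k.val < b)
    {u : Γ} (hu : u ∈ C.col m k.val k) :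
    ∀ g ∈ C.col m b r, u * g * u⁻¹ ∈ C.col m b r := by
  refine Subgroup.closure_induction_left (p := fun u _ => ∀ g ∈ C.col m b r, u * g * u⁻¹ ∈ C.col m b r)
    (fun g hg => by simpa using hg) ?_ ?_ hu
  · rintro _ ⟨i, t, hi, hik, hne, rfl⟩ v _ hv g hg
    have hir : r ≠ i := fun h => by subst h; omega
    rw [show C.X i k t * v * g * (C.X i k t * v)⁻¹ = C.X i k t * (v * g * v⁻¹) * (C.X i k t)⁻¹ by group]
    exact C.conj_X_col hne.symm hir hkr hi (by omega) t _ (hv g hg)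
  · rintro _ ⟨i, t, hi, hik, hne, rfl⟩ v _ hv g hg
    have hir : r ≠ i := fun h => by subst h; omega
    rw [C.X_inv hne,
      show C.X i k (-t) * v * g * (C.X i k (-t) * v)⁻¹ = C.X i k (-t) * (v * g * v⁻¹) * (C.X i k (-t))⁻¹
      by group]
    exact C.conj_X_col hne.symm hir hkr hi (by omega) (-t) _ (hv g hg)

theorem col_mul_rep {o o' k : Fin n} (ho : o ≠ o') (hk : o.val ≤ k.val) {a : F} (ha : a ≠ 0) {b : ℕ}
    {r : Fin n} (hr : o.val ≤ r.val) (hrk : r ≠ k) {g : Γ} (hg : g ∈ C.col o.val b r) :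
    (C.rep o o' k a)⁻¹ * g * C.rep o o' k a ∈ C.par o.val := by
  refine Subgroup.closure_induction
    (p := fun g _ => (C.rep o o' k a)⁻¹ * g * C.rep o o' k a ∈ C.par o.val) ?_ (by simp) ?_ ?_ hg
  · rintro _ ⟨i, t, hi, _, hne, rfl⟩
    exact C.X_mul_rep ho hk ha hi hr hne hrk t
  · intro x y _ _ hx hy
    have := mul_mem hx hy
    rwa [show (C.rep o o' k a)⁻¹ * x * C.rep o o' k a * ((C.rep o o' k a)⁻¹ * y * C.rep o o' k a)
      = (C.rep o o' k a)⁻¹ * (x * y) * C.rep o o' k a by group] at this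
  · intro x _ hx
    have := inv_mem hx
    rwa [show ((C.rep o o' k a)⁻¹ * x * C.rep o o' k a)⁻¹
      = (C.rep o o' k a)⁻¹ * x⁻¹ * C.rep o o' k a by group] at this

end Cov

end Cfsg.Agent.H64.SLCover
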